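import Cfsg.Agent.GLClassCount.Classes

/-!
The determinant of a matrix and of its centraliser in terms of the primary decomposition.
-/

set_option autoImplicit false

namespace CfsgLib.GLClassCount

open Polynomial Module

variable {F : Type*} [Field F]

/-- The determinant of a family of endomorphisms of a finite product. -/
theorem det_piMap {ι : Type*} [Fintype ι] [LinearOrder ι] {M : ι → Type*} [∀ i, AddCommGroup (M i)] [∀ i, Module F (M i)]
    [∀ i, FiniteDimensional F (M i)] (φ : ∀ i, M i →ₗ[F] M i) :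
    LinearMap.det (LinearMap.pi fun i => φ i ∘ₗ LinearMap.proj i) = ∏ i, LinearMap.det (φ i) := by
  classical
  let b := fun i => Module.finBasis F (M i)
  rw [← LinearMap.det_toMatrix (Pi.basis b),
    show LinearMap.toMatrix (Pi.basis b) (Pi.basis b) (LinearMap.pi fun i => φ i ∘ₗ LinearMap.proj i) =
      Matrix.blockDiagonal' fun i => LinearMap.toMatrix (b i) (b i) (φ i) from ?_, Matrix.BlockTriangular.det_fintype (Matrix.blockTriangular_blockDiagonal' _)]
  · refine Finset.prod_congr rfl fun i _ => ?_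
    rw [← LinearMap.det_toMatrix (b i), ← Matrix.det_submatrix_equiv_self
      ({ toFun := fun k => ⟨⟨i, k⟩, rfl⟩
         invFun := fun x => x.2 ▸ x.1.2
         left_inv := fun k => rfl
         right_inv := fun ⟨⟨j, k⟩, hj⟩ => by
           change j = i at hj
           subst hj
           rfl } : Fin (Module.finrank F (M i)) ≃ {x : Σ j, Fin (Module.finrank F (M j)) // x.1 = i})]
    congr 1
    ext k l
    exact Matrix.blockDiagonal'_apply_eq (fun i => LinearMap.toMatrix (b i) (b i) (φ i)) i k l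
  · ext ⟨i, k⟩ ⟨j, l⟩
    rw [LinearMap.toMatrix_apply, Pi.basis_apply, Pi.basis_repr]
    rcases eq_or_ne i j with rfl | h
    · rw [Matrix.blockDiagonal'_apply_eq, LinearMap.toMatrix_apply]
      simp
    · rw [Matrix.blockDiagonal'_apply_ne _ _ _ h]
      simp [h]

/-- Multiplicative in `f`: the norm of `u` on `F[X]/(f)`. -/
noncomputable def rootProd (K : Type*) [Field K] (u f : K[X]) : K :=
  u.leadingCoeff ^ f.natDegree * (u.roots.map fun r => (-1) ^ f.natDegree * f.eval r).prod

theorem rootProd_pow {K : Type*} [Field K] (u f : K[X]) (e : ℕ) (hf : f.Monic) :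
    rootProd K u (f ^ e) = rootProd K u f ^ e := by
  rw [rootProd, rootProd, natDegree_pow, mul_pow, ← pow_mul, mul_comm (natDegree f) e]
  congr 1
  rw [← Multiset.prod_map_pow]
  congr 1
  refine Multiset.map_congr rfl fun r _ => ?_
  rw [eval_pow, mul_pow, ← pow_mul, mul_comm (natDegree f) e]

theorem det_aeval_eq {ι : Type*} [Fintype ι] [DecidableEq ι] {K : Type*} [Field K] [IsAlgClosed K]
    (A : Matrix ι ι K) (u : K[X]) : (aeval A u).det = rootProd K u A.charpoly := by
  obtain ⟨hfac⟩ : Nonempty (PLift (C u.leadingCoeff * (u.roots.map fun r => X - C r).prod = u)) :=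
    ⟨⟨(IsAlgClosed.splits u).eq_prod_roots.symm⟩⟩
  have hlin : ∀ r : K, (aeval A (X - C r)).det = (-1) ^ A.charpoly.natDegree * A.charpoly.eval r := fun r => by
    rw [Matrix.eval_charpoly, Matrix.charpoly_natDegree_eq_dim, ← Matrix.det_neg, neg_sub, map_sub, aeval_X, aeval_C,
      Matrix.scalar_apply, Matrix.algebraMap_eq_diagonal]
    rfl
  conv_lhs => rw [← hfac.down, map_mul, Matrix.det_mul, aeval_C, Matrix.algebraMap_eq_diagonal, Matrix.det_diagonal]
  rw [rootProd]
  congr 1
  · simp [Matrix.charpoly_natDegree_eq_dim]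
  · generalize u.roots = s
    induction s using Multiset.induction with
    | empty => simp
    | cons a s ih => rw [Multiset.map_cons, Multiset.prod_cons, map_mul, Matrix.det_mul, hlin, ih, Multiset.map_cons, Multiset.prod_cons]

theorem norm_mk_pow {p : F[X]} (hp : p.Monic) (u : F[X]) (e : ℕ) :
    Algebra.norm F (AdjoinRoot.mk (p ^ e) u) = Algebra.norm F (AdjoinRoot.mk p u) ^ e := by
  classical
  have key : ∀ f : F[X], f.Monic → algebraMap F (AlgebraicClosure F) (Algebra.norm F (AdjoinRoot.mk f u)) =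
      rootProd (AlgebraicClosure F) (u.map (algebraMap _ _)) (f.map (algebraMap _ _)) := by
    intro f hf
    obtain ⟨pb, hpb⟩ : ∃ pb : PowerBasis F (AdjoinRoot f), pb = AdjoinRoot.powerBasis hf.ne_zero := ⟨_, rfl⟩
    have hgen : pb.gen = AdjoinRoot.root f := by rw [hpb]; rfl
    have hmp : minpoly F pb.gen = f := by
      rw [hgen, AdjoinRoot.minpoly_root hf.ne_zero, hf.leadingCoeff, inv_one, C_1, mul_one]
    have hM : (Algebra.leftMulMatrix pb.basis pb.gen).charpoly = f := by rw [charpoly_leftMulMatrix, hmp]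
    rw [Algebra.norm_eq_matrix_det pb.basis, ← AdjoinRoot.aeval_eq, ← hgen, ← aeval_algHom_apply, RingHom.map_det]
    conv_rhs => rw [← hM, ← Matrix.charpoly_map, ← det_aeval_eq]
    congr 1
    show ((algebraMap F (AlgebraicClosure F)).mapMatrix) (aeval (Algebra.leftMulMatrix pb.basis pb.gen) u) = _
    rw [aeval_map_algebraMap]
    exact (aeval_algHom_apply (Algebra.ofId F (AlgebraicClosure F)).mapMatrix _ u).symm
  refine (algebraMap F (AlgebraicClosure F)).injective ?_
  rw [key _ (hp.pow e), map_pow, key _ hp, Polynomial.map_pow, rootProd_pow _ _ _ (hp.map _)]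

theorem norm_root {f : F[X]} (hf : f.Monic) : Algebra.norm F (AdjoinRoot.root f) = (-1) ^ f.natDegree * f.coeff 0 := by
  have := Algebra.PowerBasis.norm_gen_eq_coeff_zero_minpoly (AdjoinRoot.powerBasis hf.ne_zero)
  rw [show (AdjoinRoot.powerBasis hf.ne_zero).gen = AdjoinRoot.root f from rfl,
    show (AdjoinRoot.powerBasis hf.ne_zero).dim = f.natDegree from rfl,
    AdjoinRoot.minpoly_root hf.ne_zero, hf.leadingCoeff, inv_one, C_1, mul_one] at this
  exact this

theorem exists_poly_norm [Finite F] {p : F[X]} (hp : Irreducible p) (hm : p.Monic) (e : ℕ) (x : F) :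
    ∃ u : F[X], Algebra.norm F (AdjoinRoot.mk (p ^ e) u) = x ^ e := by
  haveI := Fact.mk hp
  haveI : FiniteDimensional F (AdjoinRoot p) := Module.Finite.of_basis (AdjoinRoot.powerBasis hm.ne_zero).basis
  haveI : Finite (AdjoinRoot p) := Module.finite_of_finite F
  obtain ⟨a, ha⟩ := FiniteField.norm_surjective F (AdjoinRoot p) x
  obtain ⟨u, rfl⟩ := AdjoinRoot.mk_surjective a
  exact ⟨u, by rw [norm_mk_pow hm, ha]⟩

section

variable {M : Type*} [AddCommGroup M] [Module F[X] M] [Module F M] [IsScalarTower F F[X] M] {m : ℕ}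
  {p : Fin m → F[X]} {e : Fin m → ℕ}

theorem det_smul_X (hp : ∀ i, (p i).Monic) (h : HasType (M := M) p e) :
    LinearMap.det (DistribSMul.toLinearMap F M (X : F[X])) = ∏ i, ((-1) ^ (p i).natDegree * (p i).coeff 0) ^ e i := by
  classical
  obtain ⟨φ⟩ := h
  have hfin : ∀ i, Module.Finite F (F[X] ⧸ Ideal.span {p i ^ e i}) := fun i => ((hp i).pow _).finite_quotient
  rw [← LinearMap.det_conj (DistribSMul.toLinearMap F M (X : F[X])) (φ.restrictScalars F),
    show (φ.restrictScalars F).toLinearMap ∘ₗ DistribSMul.toLinearMap F M (X : F[X]) ∘ₗ (φ.restrictScalars F).symm.toLinearMap =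
      LinearMap.pi (fun i => (LinearMap.mulLeft F (Ideal.Quotient.mk (Ideal.span {p i ^ e i}) X)) ∘ₗ LinearMap.proj i) from ?_,
    det_piMap]
  · refine Finset.prod_congr rfl fun i _ => ?_
    have h1 : LinearMap.det (LinearMap.mulLeft F (Ideal.Quotient.mk (Ideal.span {p i ^ e i}) X)) =
        Algebra.norm F (AdjoinRoot.mk (p i ^ e i) X) := rfl
    rw [h1, norm_mk_pow (hp i), AdjoinRoot.mk_X, norm_root (hp i)]
  · refine LinearMap.ext fun v => funext fun i => ?_
    show φ ((X : F[X]) • φ.symm v) i = Ideal.Quotient.mk _ X * v i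
    rw [map_smul, φ.apply_symm_apply]
    rfl

theorem exists_commute_det [Finite F] (hp : ∀ i, Irreducible (p i) ∧ (p i).Monic) (h : HasType (M := M) p e) (i : Fin m)
    (x : F) : ∃ T : M →ₗ[F[X]] M, LinearMap.det (T.restrictScalars F) = x ^ e i := by
  classical
  obtain ⟨φ⟩ := h
  have hfin : ∀ i, Module.Finite F (F[X] ⧸ Ideal.span {p i ^ e i}) := fun i => ((hp i).2.pow _).finite_quotient
  obtain ⟨u, hu⟩ := exists_poly_norm (hp i).1 (hp i).2 (e i) x
  let w : Fin m → F[X] := Function.update 1 i u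
  let T₀ : (∀ j, F[X] ⧸ Ideal.span {p j ^ e j}) →ₗ[F[X]] (∀ j, F[X] ⧸ Ideal.span {p j ^ e j}) :=
    LinearMap.pi fun j => (LinearMap.lsmul F[X] _ (w j)) ∘ₗ LinearMap.proj j
  refine ⟨φ.symm.toLinearMap ∘ₗ T₀ ∘ₗ φ.toLinearMap, ?_⟩
  rw [← LinearMap.det_conj ((φ.symm.toLinearMap ∘ₗ T₀ ∘ₗ φ.toLinearMap).restrictScalars F) (φ.restrictScalars F),
    show (φ.restrictScalars F).toLinearMap ∘ₗ (φ.symm.toLinearMap ∘ₗ T₀ ∘ₗ φ.toLinearMap).restrictScalars F ∘ₗ
      (φ.restrictScalars F).symm.toLinearMap =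
      LinearMap.pi (fun j => (LinearMap.mulLeft F (Ideal.Quotient.mk (Ideal.span {p j ^ e j}) (w j))) ∘ₗ LinearMap.proj j) from ?_,
    det_piMap, Finset.prod_eq_single i]
  · rw [show w i = u from Function.update_self _ _ _]
    exact hu
  · intro j _ hj
    rw [show w j = 1 from Function.update_of_ne hj _ _, map_one, LinearMap.mulLeft_one, LinearMap.det_id]
  · exact fun hi => absurd (Finset.mem_univ i) hi
  · refine LinearMap.ext fun v => funext fun j => ?_
    show φ (φ.symm (T₀ (φ (φ.symm v)))) j = Ideal.Quotient.mk _ (w j) * v j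
    rw [φ.apply_symm_apply, φ.apply_symm_apply]
    rfl

end

end CfsgLib.GLClassCount
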