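import Cfsg.Agent.GLClassCount.Tuples

/-!
Primary decomposition encodes conjugacy classes of the general linear group as weighted tuples.
-/

set_option autoImplicit false

namespace CfsgLib.GLClassCount

open Polynomial Module DirectSum

variable {F : Type*} [Field F]

/-- A primary decomposition of an `F[X]`-module. -/
def HasType {M : Type*} [AddCommGroup M] [Module F[X] M] {ι : Type*} (p : ι → F[X]) (e : ι → ℕ) : Prop :=
  Nonempty (M ≃ₗ[F[X]] (∀ i, F[X] ⧸ Ideal.span {p i ^ e i}))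

theorem exists_type {M : Type*} [AddCommGroup M] [Module F[X] M] [Module F M] [IsScalarTower F F[X] M]
    [FiniteDimensional F M] [Module.Finite F[X] M] (hM : Module.IsTorsion F[X] M) :
    ∃ (m : ℕ) (p : Fin m → F[X]) (e : Fin m → ℕ), (∀ i, Irreducible (p i) ∧ (p i).Monic ∧ e i ≠ 0) ∧
      HasType (M := M) p e := by
  classical
  obtain ⟨ι, hι, p, hp, e, ⟨φ⟩⟩ := Module.equiv_directSum_of_isTorsion hM
  let s := Fintype.equivFin {i : ι // e i ≠ 0}
  refine ⟨_, fun k => normalize (p (s.symm k).1), fun k => e (s.symm k).1,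
    fun k => ⟨(normalize_associated _).symm.irreducible (hp _), Polynomial.monic_normalize (hp _).ne_zero, (s.symm k).2⟩, ?_⟩
  have hspan : ∀ i, Ideal.span {p i ^ e i} = Ideal.span {normalize (p i) ^ e i} := fun i =>
    Ideal.span_singleton_eq_span_singleton.mpr ((normalize_associated _).symm.pow_pow)
  have hzero : ∀ i, e i = 0 → Subsingleton (F[X] ⧸ Ideal.span {normalize (p i) ^ e i}) := fun i hi => by
    rw [hi, pow_zero, Ideal.span_singleton_one]
    exact Submodule.Quotient.subsingleton_iff.mpr rfl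
  let drop : (∀ i, F[X] ⧸ Ideal.span {normalize (p i) ^ e i}) →ₗ[F[X]]
      (∀ i : {i : ι // e i ≠ 0}, F[X] ⧸ Ideal.span {normalize (p i.1) ^ e i.1}) :=
    LinearMap.pi fun i => LinearMap.proj i.1
  have hdrop : Function.Bijective drop := by
    refine ⟨fun a b h => funext fun i => ?_, fun a => ?_⟩
    · by_cases hi : e i = 0
      · exact (hzero i hi).elim _ _
      · exact congrFun h ⟨i, hi⟩
    · refine ⟨fun i => if hi : e i = 0 then 0 else a ⟨i, hi⟩, funext fun i => ?_⟩
      show (if hi : e i.1 = 0 then (0 : F[X] ⧸ Ideal.span {normalize (p i.1) ^ e i.1}) else a ⟨i.1, hi⟩) = a i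
      rw [dif_neg i.2]
  exact ⟨φ ≪≫ₗ DirectSum.linearEquivFunOnFintype F[X] ι _ ≪≫ₗ
    LinearEquiv.piCongrRight (fun i => Submodule.quotEquivOfEq _ _ (hspan i)) ≪≫ₗ LinearEquiv.ofBijective drop hdrop ≪≫ₗ
    LinearEquiv.piCongrLeft' F[X] (fun i : {i : ι // e i ≠ 0} => F[X] ⧸ Ideal.span {normalize (p i.1) ^ e i.1}) s⟩

theorem finrank_type {M : Type*} [AddCommGroup M] [Module F[X] M] [Module F M] [IsScalarTower F F[X] M]
    {m : ℕ} {p : Fin m → F[X]} {e : Fin m → ℕ} (hp : ∀ i, (p i).Monic) (h : HasType (M := M) p e) :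
    Module.finrank F M = ∑ i, e i * (p i).natDegree := by
  obtain ⟨φ⟩ := h
  have hfin : ∀ i, Module.Finite F (F[X] ⧸ Ideal.span {p i ^ e i}) := fun i => ((hp i).pow _).finite_quotient
  rw [(φ.restrictScalars F).finrank_eq, Module.finrank_pi_fintype]
  exact Finset.sum_congr rfl fun i _ => by rw [finrank_quotient_span_eq_natDegree, natDegree_pow]

theorem ne_X {M : Type*} [AddCommGroup M] [Module F[X] M] (hX : ∀ x : M, (X : F[X]) • x = 0 → x = 0)
    {m : ℕ} {p : Fin m → F[X]} {e : Fin m → ℕ} (he : ∀ i, e i ≠ 0) (h : HasType (M := M) p e) (i : Fin m) :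
    p i ≠ X := by
  classical
  obtain ⟨φ⟩ := h
  intro hi
  have h1 := hX (φ.symm (Pi.single i (Ideal.Quotient.mk _ (X ^ (e i - 1))))) (by
    rw [← map_smul, ← Pi.single_smul, φ.symm.map_eq_zero_iff, Pi.single_eq_zero_iff]
    show Ideal.Quotient.mk _ (X * X ^ (e i - 1)) = 0
    rw [← pow_succ', Nat.sub_add_cancel (Nat.pos_of_ne_zero (he i)), Ideal.Quotient.eq_zero_iff_mem,
      Ideal.mem_span_singleton, hi])
  rw [φ.symm.map_eq_zero_iff, Pi.single_eq_zero_iff, Ideal.Quotient.eq_zero_iff_mem, Ideal.mem_span_singleton, hi] at h1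
  have := ((monic_X (R := F)).pow (e i - 1)).ne_zero
  have h2 := natDegree_le_of_dvd h1 this
  rw [natDegree_X_pow, natDegree_X_pow] at h2
  have := Nat.pos_of_ne_zero (he i)
  omega

/-- The product of the primes with a given exponent. -/
noncomputable def encode {m : ℕ} (p : Fin m → F[X]) (e : Fin m → ℕ) (n : ℕ) (j : Fin n) : F[X] :=
  ∏ i ∈ Finset.univ.filter (fun i => e i = (j : ℕ) + 1), p i

theorem equiv_of_encode {M M' : Type*} [AddCommGroup M] [Module F[X] M] [AddCommGroup M'] [Module F[X] M']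
    {n m m' : ℕ} {p : Fin m → F[X]} {e : Fin m → ℕ} {p' : Fin m' → F[X]} {e' : Fin m' → ℕ}
    (hp : ∀ i, Irreducible (p i) ∧ (p i).Monic ∧ e i ≠ 0) (hp' : ∀ i, Irreducible (p' i) ∧ (p' i).Monic ∧ e' i ≠ 0)
    (hn : ∀ i, e i ≤ n) (hn' : ∀ i, e' i ≤ n) (h : HasType (M := M) p e) (h' : HasType (M := M') p' e')
    (henc : encode p e n = encode p' e' n) : Nonempty (M ≃ₗ[F[X]] M') := by
  classical
  obtain ⟨φ⟩ := h
  obtain ⟨ψ⟩ := h'
  have hfac : ∀ {m : ℕ} {p : Fin m → F[X]} {e : Fin m → ℕ}, (∀ i, Irreducible (p i) ∧ (p i).Monic ∧ e i ≠ 0) →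
      ∀ j : Fin n, UniqueFactorizationMonoid.normalizedFactors (encode p e n j) =
        (Finset.univ.filter fun i => e i = (j : ℕ) + 1).val.map p := by
    intro m p e hp j
    rw [encode, Finset.prod_eq_multiset_prod, UniqueFactorizationMonoid.normalizedFactors_prod_eq _
      fun a ha => by obtain ⟨i, -, rfl⟩ := Multiset.mem_map.mp ha; exact (hp i).1, Multiset.map_map]
    exact Multiset.map_congr rfl fun i _ => (hp i).2.1.normalize_eq_self
  have hcount : ∀ c : F[X] × ℕ,
      Fintype.card {i // (p i, e i) = c} = Fintype.card {i // (p' i, e' i) = c} := by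
    rintro ⟨P, j⟩
    by_cases hj : j = 0 ∨ n < j
    · have : IsEmpty {i // (p i, e i) = (P, j)} := ⟨fun ⟨i, hi⟩ => by
        rw [Prod.mk.injEq] at hi; have := (hp i).2.2; have := hn i; omega⟩
      have : IsEmpty {i // (p' i, e' i) = (P, j)} := ⟨fun ⟨i, hi⟩ => by
        rw [Prod.mk.injEq] at hi; have := (hp' i).2.2; have := hn' i; omega⟩
      rw [Fintype.card_eq_zero, Fintype.card_eq_zero]
    · push Not at hj
      have hc := congrArg (Multiset.count P) ((hfac hp ⟨j - 1, by omega⟩).symm.trans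
        ((congrArg _ (congrFun henc _)).trans (hfac hp' ⟨j - 1, by omega⟩)))
      simp only [Multiset.count_map, ← Finset.filter_val, ← Finset.card_def, Finset.filter_filter] at hc
      rw [Fintype.card_subtype, Fintype.card_subtype]
      convert hc using 2 <;> ext i <;> simp only [Finset.mem_filter, Finset.mem_univ, true_and, Prod.mk.injEq] <;>
        constructor <;> rintro ⟨h1, h2⟩ <;> constructor <;> first | exact h1.symm | exact h2.symm | omega
  obtain ⟨σ, hσ⟩ : ∃ σ : Fin m ≃ Fin m', ∀ i, (p i, e i) = (p' (σ i), e' (σ i)) := by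
    refine ⟨Equiv.ofFiberEquiv (f := fun i => (p i, e i)) (g := fun i => (p' i, e' i))
      (fun c => Fintype.equivOfCardEq (hcount c)), fun i => ?_⟩
    exact (Equiv.ofFiberEquiv_map (f := fun i => (p i, e i)) (g := fun i => (p' i, e' i)) _ i).symm
  refine ⟨φ ≪≫ₗ LinearEquiv.piCongrRight (fun i => Submodule.quotEquivOfEq _ (Ideal.span {p' (σ i) ^ e' (σ i)}) ?_) ≪≫ₗ
    LinearEquiv.piCongrLeft F[X] (fun i : Fin m' => F[X] ⧸ Ideal.span {p' i ^ e' i}) σ ≪≫ₗ ψ.symm⟩
  obtain ⟨h1, h2⟩ := Prod.mk.inj (hσ i)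
  rw [h1, h2]

variable (F)

theorem card_conjClasses_le [Fintype F] (n : ℕ) :
    Nat.card (ConjClasses (Matrix.GeneralLinearGroup (Fin n) F)) ≤ Fintype.card F ^ n := by
  classical
  obtain ⟨hfin, hcard⟩ := card_tuples_le F n
  refine le_trans ?_ hcard
  have hdec : ∀ g : Matrix.GeneralLinearGroup (Fin n) F, ∃ (m : ℕ) (p : Fin m → F[X]) (e : Fin m → ℕ),
      ((∀ i, Irreducible (p i) ∧ (p i).Monic ∧ e i ≠ 0) ∧ (∀ i, e i ≤ n) ∧ (∀ i, p i ≠ X) ∧
        ∑ i, e i * (p i).natDegree = n) ∧ HasType (M := Module.AEval' (Matrix.toLin' g.1)) p e := by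
    intro g
    obtain ⟨m, p, e, hp, hT⟩ := exists_type (F := F) (M := Module.AEval' (Matrix.toLin' g.1))
      (Module.AEval.isTorsion_of_finiteDimensional F (Fin n → F) (Matrix.toLin' g.1))
    have hsum : ∑ i, e i * (p i).natDegree = n := by
      rw [← finrank_type (fun i => (hp i).2.1) hT, ← (Module.AEval'.of _).finrank_eq, Module.finrank_pi,
        Fintype.card_fin]
    refine ⟨m, p, e, ⟨hp, fun i => ?_, ne_X (fun x hx => ?_) (fun i => (hp i).2.2) hT, hsum⟩, hT⟩
    · refine le_trans ?_ ((Finset.single_le_sum (f := fun i => e i * (p i).natDegree) (fun j _ => Nat.zero_le _)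
        (Finset.mem_univ i)).trans hsum.le)
      exact Nat.le_mul_of_pos_right _ (hp i).1.natDegree_pos
    · obtain ⟨v, rfl⟩ := (Module.AEval'.of (Matrix.toLin' g.1)).surjective x
      rw [Module.AEval'.X_smul_of, LinearEquiv.map_eq_zero_iff, Matrix.toLin'_apply] at hx
      rw [LinearEquiv.map_eq_zero_iff]
      exact Matrix.mulVec_injective_iff_isUnit.mpr g.isUnit (by rw [hx, Matrix.mulVec_zero])
  choose m p e hprop hT using hdec
  let enc : Matrix.GeneralLinearGroup (Fin n) F → Tuples F n 0 n := fun g => ⟨encode (p g) (e g) n,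
    fun j => ⟨monic_prod_of_monic _ _ fun i _ => ((hprop g).1 i).2.1, by
      rw [encode, coeff_zero_prod]
      refine Finset.prod_ne_zero_iff.mpr fun i _ => fun h => (hprop g).2.2.1 i ?_
      exact (eq_of_monic_of_associated monic_X ((hprop g).1 i).2.1
        (irreducible_X.associated_of_dvd ((hprop g).1 i).1 (X_dvd_iff.mpr h))).symm⟩,
    fun j hj => absurd hj (Nat.not_lt_zero _), by
      conv_rhs => rw [← (hprop g).2.2.2]
      have : ∀ j : Fin n, ((j : ℕ) + 1) * (encode (p g) (e g) n j).natDegree =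
          ∑ i ∈ Finset.univ.filter (fun i => e g i = (j : ℕ) + 1), e g i * (p g i).natDegree := fun j => by
        rw [encode, natDegree_prod_of_monic _ _ fun i _ => ((hprop g).1 i).2.1, Finset.mul_sum]
        exact Finset.sum_congr rfl fun i hi => by rw [(Finset.mem_filter.mp hi).2]
      rw [Finset.sum_congr rfl fun j _ => this j,
        ← Finset.sum_fiberwise Finset.univ (fun i : Fin (m g) => (⟨e g i - 1, by
          have := ((hprop g).1 i).2.2; have := (hprop g).2.1 i; omega⟩ : Fin n))]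
      refine Finset.sum_congr rfl fun j _ => Finset.sum_congr (Finset.ext fun i => ?_) fun i _ => rfl
      have := ((hprop g).1 i).2.2
      simp only [Finset.mem_filter, Finset.mem_univ, true_and, Fin.ext_iff]
      omega⟩
  have : Finite (Matrix.GeneralLinearGroup (Fin n) F) := inferInstance
  refine Nat.card_le_card_of_injective (fun C : ConjClasses _ => enc (Quotient.out C)) fun C D h => ?_
  obtain ⟨φ⟩ := equiv_of_encode (hprop _).1 (hprop _).1 (hprop _).2.1 (hprop _).2.1 (hT (Quotient.out C))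
    (hT (Quotient.out D)) (congrArg Subtype.val h)
  rw [← Quotient.out_eq C, ← Quotient.out_eq D]
  refine Quotient.sound (show IsConj (Quotient.out C) (Quotient.out D) from ?_)
  obtain ⟨a, ha⟩ : ∃ a : Matrix.GeneralLinearGroup (Fin n) F, a = Quotient.out C := ⟨_, rfl⟩
  obtain ⟨b, hb⟩ : ∃ b : Matrix.GeneralLinearGroup (Fin n) F, b = Quotient.out D := ⟨_, rfl⟩
  revert φ
  rw [← ha, ← hb]
  intro φ
  obtain ⟨ψ, hψ⟩ : ∃ ψ : (Fin n → F) ≃ₗ[F] (Fin n → F), ψ = Module.AEval'.of _ ≪≫ₗ φ.restrictScalars F ≪≫ₗ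
    (Module.AEval'.of _).symm := ⟨_, rfl⟩
  have hcomm : ∀ v, ψ (Matrix.mulVec a.1 v) = Matrix.mulVec b.1 (ψ v) := fun v => by
    rw [hψ]
    show (Module.AEval'.of _).symm (φ (Module.AEval'.of _ (Matrix.mulVec a.1 v))) =
      Matrix.toLin' b.1 ((Module.AEval'.of _).symm (φ (Module.AEval'.of _ v)))
    rw [← Matrix.toLin'_apply a.1 v, ← Module.AEval'.X_smul_of, map_smul, Module.AEval'.of_symm_X_smul]
  obtain ⟨P, hP⟩ : ∃ P : Matrix (Fin n) (Fin n) F, P = LinearMap.toMatrix' ψ.toLinearMap := ⟨_, rfl⟩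
  have hPv : ∀ v, Matrix.mulVec P v = ψ v := fun v => by rw [hP, LinearMap.toMatrix'_mulVec]; rfl
  have hPu : IsUnit P := Matrix.mulVec_injective_iff_isUnit.mp fun v w h => ψ.injective (by rwa [hPv, hPv] at h)
  refine isConj_iff.mpr ⟨hPu.unit, mul_inv_eq_iff_eq_mul.mpr (Units.ext ?_)⟩
  show P * a.1 = b.1 * P
  refine Matrix.toLin'.injective (LinearMap.ext fun v => ?_)
  simp only [Matrix.toLin'_mul, LinearMap.comp_apply, Matrix.toLin'_apply, hPv, hcomm]

end CfsgLib.GLClassCount
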