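import Cfsg.Agent.GLClassCount.CentDet

/-!
Splitting of general linear classes in the special linear group.
-/

set_option autoImplicit false

namespace CfsgLib.GLClassCount

open Polynomial Module

variable {F : Type*} [Field F] {n : ℕ}

/-- Primary decomposition data of an invertible matrix. -/
theorem exists_data (g : Matrix.GeneralLinearGroup (Fin n) F) : ∃ (m : ℕ) (p : Fin m → F[X]) (e : Fin m → ℕ),
    ((∀ i, Irreducible (p i) ∧ (p i).Monic ∧ e i ≠ 0) ∧ (∀ i, e i ≤ n) ∧ (∀ i, p i ≠ X) ∧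
      ∑ i, e i * (p i).natDegree = n) ∧ HasType (M := Module.AEval' (Matrix.toLin' g.1)) p e := by
  obtain ⟨m, p, e, hp, hT⟩ := exists_type (F := F) (M := Module.AEval' (Matrix.toLin' g.1))
    (Module.AEval.isTorsion_of_finiteDimensional F (Fin n → F) (Matrix.toLin' g.1))
  have hsum : ∑ i, e i * (p i).natDegree = n := by
    rw [← finrank_type (fun i => (hp i).2.1) hT, ← (Module.AEval'.of _).finrank_eq, Module.finrank_pi,
      Fintype.card_fin]
  refine ⟨m, p, e, ⟨hp, fun i => ?_, ne_X (fun x hx => ?_) (fun i => (hp i).2.2) hT, hsum⟩, hT⟩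
  · refine le_trans ?_ ((Finset.single_le_sum (f := fun i => e i * (p i).natDegree) (fun j _ => Nat.zero_le _)
      (Finset.mem_univ i)).trans hsum.le)
    exact Nat.le_mul_of_pos_right _ (hp i).1.natDegree_pos
  · obtain ⟨v, rfl⟩ := (Module.AEval'.of (Matrix.toLin' g.1)).surjective x
    rw [Module.AEval'.X_smul_of, LinearEquiv.map_eq_zero_iff, Matrix.toLin'_apply] at hx
    rw [LinearEquiv.map_eq_zero_iff]
    exact Matrix.mulVec_injective_iff_isUnit.mpr g.isUnit (by rw [hx, Matrix.mulVec_zero])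

/-- The determinant attached to a tuple. -/
noncomputable def detVal (h : Fin n → F[X]) : F :=
  ∏ j, ((-1) ^ (h j).natDegree * (h j).coeff 0) ^ ((j : ℕ) + 1)

variable [Fintype F]

/-- Bound for the number of classes a tuple splits into. -/
noncomputable def splitBound (h : Fin n → F[X]) : ℕ :=
  haveI : DecidableEq F[X] := Classical.decEq _
  Nat.gcd (Fintype.card F - 1) ((Finset.univ.filter fun j => h j ≠ 1).gcd fun j : Fin n => (j : ℕ) + 1)

theorem encode_weight {m : ℕ} {p : Fin m → F[X]} {e : Fin m → ℕ} (hp : ∀ i, (p i).Monic) (he : ∀ i, e i ≠ 0)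
    (hn : ∀ i, e i ≤ n) :
    ∑ j : Fin n, ((j : ℕ) + 1) * (encode p e n j).natDegree = ∑ i, e i * (p i).natDegree ∧
      detVal (encode p e n) = ∏ i, ((-1) ^ (p i).natDegree * (p i).coeff 0) ^ e i := by
  classical
  have hfib : ∀ j : Fin n, Finset.univ.filter (fun i => e i = (j : ℕ) + 1) =
      Finset.univ.filter (fun i : Fin m => (⟨e i - 1, by have := he i; have := hn i; omega⟩ : Fin n) = j) := fun j => by
    ext i
    have := he i
    simp only [Finset.mem_filter, Finset.mem_univ, true_and, Fin.ext_iff]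
    omega
  constructor
  · rw [← Finset.sum_fiberwise Finset.univ (fun i : Fin m => (⟨e i - 1, by have := he i; have := hn i; omega⟩ : Fin n))]
    refine Finset.sum_congr rfl fun j _ => ?_
    rw [encode, natDegree_prod_of_monic _ _ fun i _ => hp i, Finset.mul_sum, ← hfib]
    exact Finset.sum_congr rfl fun i hi => by rw [(Finset.mem_filter.mp hi).2]
  · rw [detVal, ← Finset.prod_fiberwise Finset.univ (fun i : Fin m => (⟨e i - 1, by have := he i; have := hn i; omega⟩ : Fin n))]
    refine Finset.prod_congr rfl fun j _ => ?_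
    rw [encode, natDegree_prod_of_monic _ _ fun i _ => hp i, coeff_zero_prod, ← Finset.prod_pow_eq_pow_sum,
      ← Finset.prod_mul_distrib, ← Finset.prod_pow, ← hfib]
    exact Finset.prod_congr rfl fun i hi => by rw [(Finset.mem_filter.mp hi).2]

theorem pow_gcd_mem {G : Type*} [CommGroup G] (H : Subgroup G) {ι : Type*} (s : Finset ι) (f : ι → ℕ)
    (hf : ∀ i ∈ s, ∀ x : G, x ^ f i ∈ H) : ∀ x : G, x ^ s.gcd f ∈ H := by
  classical
  induction s using Finset.induction_on with
  | empty => intro x; simp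
  | insert a s has ih =>
    intro x
    have h1 := ih (fun i hi => hf i (Finset.mem_insert_of_mem hi)) x
    have h2 := hf a (Finset.mem_insert_self a s) x
    rw [Finset.gcd_insert, ← zpow_natCast, show GCDMonoid.gcd (f a) (s.gcd f) = Nat.gcd (f a) (s.gcd f) from rfl,
      Nat.gcd_eq_gcd_ab, zpow_add, zpow_mul, zpow_mul, zpow_natCast, zpow_natCast]
    exact H.mul_mem (H.zpow_mem h2 _) (H.zpow_mem h1 _)

theorem exists_sl_key (n : ℕ) :
    ∃ key : ConjClasses (Matrix.SpecialLinearGroup (Fin n) F) → {h : Tuples F n 0 n // detVal h.1 = 1},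
      (∀ C, ∃ (m : ℕ) (p : Fin m → F[X]) (e : Fin m → ℕ),
        ((∀ i, Irreducible (p i) ∧ (p i).Monic ∧ e i ≠ 0) ∧ (∀ i, e i ≤ n) ∧ (∀ i, p i ≠ X) ∧
          ∑ i, e i * (p i).natDegree = n) ∧
        HasType (M := Module.AEval' (Matrix.toLin' (Quotient.out C : Matrix.SpecialLinearGroup (Fin n) F).1)) p e ∧
        (key C).1.1 = encode p e n) ∧
      ∀ h, Nat.card {C // key C = h} ≤ splitBound h.1.1 := by
  classical
  choose m p e hprop hT using fun g : Matrix.GeneralLinearGroup (Fin n) F => exists_data g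
  let enc : Matrix.GeneralLinearGroup (Fin n) F → Tuples F n 0 n := fun g => ⟨encode (p g) (e g) n,
    fun j => ⟨monic_prod_of_monic _ _ fun i _ => ((hprop g).1 i).2.1, by
      rw [encode, coeff_zero_prod]
      refine Finset.prod_ne_zero_iff.mpr fun i _ => fun h => (hprop g).2.2.1 i ?_
      exact (eq_of_monic_of_associated monic_X ((hprop g).1 i).2.1
        (irreducible_X.associated_of_dvd ((hprop g).1 i).1 (X_dvd_iff.mpr h))).symm⟩,
    fun j hj => absurd hj (Nat.not_lt_zero _),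
    (encode_weight (fun i => ((hprop g).1 i).2.1) (fun i => ((hprop g).1 i).2.2) (hprop g).2.1).1.trans (hprop g).2.2.2⟩
  have hdet : ∀ g, detVal (enc g).1 = g.1.det := fun g => by
    show detVal (encode (p g) (e g) n) = g.1.det
    rw [(encode_weight (fun i => ((hprop g).1 i).2.1) (fun i => ((hprop g).1 i).2.2) (hprop g).2.1).2,
      ← det_smul_X (fun i => ((hprop g).1 i).2.1) (hT g), ← LinearMap.det_toLin' g.1,
      ← LinearMap.det_conj (Matrix.toLin' g.1) (Module.AEval'.of (Matrix.toLin' g.1))]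
    congr 1
    refine LinearMap.ext fun x => ?_
    obtain ⟨v, rfl⟩ := (Module.AEval'.of (Matrix.toLin' g.1)).surjective x
    show (X : F[X]) • Module.AEval'.of (Matrix.toLin' g.1) v = Module.AEval'.of _ (Matrix.toLin' g.1 ((Module.AEval'.of _).symm (Module.AEval'.of _ v)))
    rw [Module.AEval'.X_smul_of, LinearEquiv.symm_apply_apply]
  -- representatives
  let rep : ConjClasses (Matrix.SpecialLinearGroup (Fin n) F) → Matrix.GeneralLinearGroup (Fin n) F := fun C =>
    Matrix.SpecialLinearGroup.toGL (Quotient.out C)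
  let key : ConjClasses (Matrix.SpecialLinearGroup (Fin n) F) → {h : Tuples F n 0 n // detVal h.1 = 1} := fun C =>
    ⟨enc (rep C), (hdet _).trans (Quotient.out C).2⟩
  refine ⟨key, fun C => ⟨_, _, _, hprop (rep C), hT (rep C), rfl⟩, fun h => ?_⟩
  rcases isEmpty_or_nonempty {C // key C = h} with hemp | ⟨⟨C₀, hC₀⟩⟩
  · rw [Nat.card_of_isEmpty]; exact Nat.zero_le _
  obtain ⟨g₀, hg₀⟩ : ∃ g₀, g₀ = rep C₀ := ⟨_, rfl⟩
  -- equal tuples give conjugate matrices
  have hconj : ∀ C : {C // key C = h}, ∃ c : Matrix.GeneralLinearGroup (Fin n) F, c * g₀ * c⁻¹ = rep C.1 := by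
    intro C
    have he : encode (p g₀) (e g₀) n = encode (p (rep C.1)) (e (rep C.1)) n := by
      have := congrArg (fun t : {h : Tuples F n 0 n // detVal h.1 = 1} => t.1.1) (C.2.trans hC₀.symm)
      rw [hg₀]
      exact this.symm
    obtain ⟨φ⟩ := equiv_of_encode (hprop g₀).1 (hprop _).1 (hprop g₀).2.1 (hprop _).2.1 (hT g₀) (hT (rep C.1)) he
    obtain ⟨ψ, hψ⟩ : ∃ ψ : (Fin n → F) ≃ₗ[F] (Fin n → F), ψ = Module.AEval'.of _ ≪≫ₗ φ.restrictScalars F ≪≫ₗ
      (Module.AEval'.of _).symm := ⟨_, rfl⟩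
    have hcomm : ∀ v, ψ (Matrix.mulVec g₀.1 v) = Matrix.mulVec (rep C.1).1 (ψ v) := fun v => by
      rw [hψ]
      show (Module.AEval'.of _).symm (φ (Module.AEval'.of _ (Matrix.mulVec g₀.1 v))) =
        Matrix.toLin' (rep C.1).1 ((Module.AEval'.of _).symm (φ (Module.AEval'.of _ v)))
      rw [← Matrix.toLin'_apply g₀.1 v, ← Module.AEval'.X_smul_of, map_smul, Module.AEval'.of_symm_X_smul]
    obtain ⟨P, hP⟩ : ∃ P : Matrix (Fin n) (Fin n) F, P = LinearMap.toMatrix' ψ.toLinearMap := ⟨_, rfl⟩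
    have hPv : ∀ v, Matrix.mulVec P v = ψ v := fun v => by rw [hP, LinearMap.toMatrix'_mulVec]; rfl
    have hPu : IsUnit P := Matrix.mulVec_injective_iff_isUnit.mp fun v w h => ψ.injective (by rwa [hPv, hPv] at h)
    refine ⟨hPu.unit, mul_inv_eq_iff_eq_mul.mpr (Units.ext ?_)⟩
    show P * g₀.1 = (rep C.1).1 * P
    refine Matrix.toLin'.injective (LinearMap.ext fun v => ?_)
    simp only [Matrix.toLin'_mul, LinearMap.comp_apply, Matrix.toLin'_apply, hPv, hcomm]
  choose c hc using hconj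
  obtain ⟨H, hH⟩ : ∃ H : Subgroup Fˣ,
      H = (Subgroup.centralizer {g₀}).map Matrix.GeneralLinearGroup.det := ⟨_, rfl⟩
  have hinj : Function.Injective fun C : {C // key C = h} =>
      (QuotientGroup.mk (Matrix.GeneralLinearGroup.det (c C)) : Fˣ ⧸ H) := by
    intro C C' e'
    rw [QuotientGroup.eq, hH] at e'
    obtain ⟨z, hz, hz'⟩ := e'
    refine Subtype.ext ?_
    rw [← Quotient.out_eq C.1, ← Quotient.out_eq C'.1]
    refine Quotient.sound (show IsConj (Quotient.out C.1) (Quotient.out C'.1) from ?_)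
    have hsd : (c C' * z⁻¹ * (c C)⁻¹).1.det = 1 := by
      rw [← Matrix.GeneralLinearGroup.val_det_apply, map_mul, map_mul, map_inv, map_inv, hz']
      simp
    refine isConj_iff.mpr ⟨⟨_, hsd⟩, mul_inv_eq_iff_eq_mul.mpr (Matrix.SpecialLinearGroup.toGL_injective ?_)⟩
    refine Units.ext ?_
    show (c C' * z⁻¹ * (c C)⁻¹).1 * (rep C.1).1 = (rep C'.1).1 * (c C' * z⁻¹ * (c C)⁻¹).1
    rw [← Units.val_mul, ← Units.val_mul]
    congr 1
    rw [← hc C, ← hc C']
    have hz1 : z⁻¹ * g₀ = g₀ * z⁻¹ :=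
      (Subgroup.mem_centralizer_singleton_iff.mp (inv_mem hz))
    calc c C' * z⁻¹ * (c C)⁻¹ * (c C * g₀ * (c C)⁻¹) = c C' * (z⁻¹ * g₀) * (c C)⁻¹ := by group
      _ = c C' * g₀ * (c C')⁻¹ * (c C' * z⁻¹ * (c C)⁻¹) := by rw [hz1]; group
  haveI : Finite (Fˣ ⧸ H) := inferInstance
  refine (Nat.card_le_card_of_injective _ hinj).trans ?_
  rw [show Nat.card (Fˣ ⧸ H) = H.index from rfl]
  have hh : (enc g₀).1 = h.1.1 := by
    rw [hg₀]; exact congrArg (fun t : {h : Tuples F n 0 n // detVal h.1 = 1} => t.1.1) hC₀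
  obtain ⟨G, hG⟩ : ∃ G, G = (Finset.univ.filter fun j => h.1.1 j ≠ 1).gcd fun j : Fin n => (j : ℕ) + 1 := ⟨_, rfl⟩
  have hrange : (powMonoidHom G : Fˣ →* Fˣ).range ≤ H := by
    rintro _ ⟨x, rfl⟩
    rw [powMonoidHom_apply, hG]
    refine pow_gcd_mem H _ _ (fun j hj y => ?_) x
    obtain ⟨i, hi⟩ : ∃ i, e g₀ i = (j : ℕ) + 1 := by
      by_contra hno
      push Not at hno
      refine (Finset.mem_filter.mp hj).2 ?_
      rw [← hh]
      show encode (p g₀) (e g₀) n j = 1
      rw [encode, Finset.prod_eq_one]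
      exact fun i hi => absurd (Finset.mem_filter.mp hi).2 (hno i)
    obtain ⟨T, hTd⟩ := exists_commute_det (fun i => ⟨((hprop g₀).1 i).1, ((hprop g₀).1 i).2.1⟩) (hT g₀) i (y : F)
    obtain ⟨L, hL⟩ : ∃ L : (Fin n → F) →ₗ[F] (Fin n → F), L = (Module.AEval'.of _).symm.toLinearMap ∘ₗ
        T.restrictScalars F ∘ₗ (Module.AEval'.of (Matrix.toLin' g₀.1)).toLinearMap := ⟨_, rfl⟩
    have hLd : L.det = (y : F) ^ ((j : ℕ) + 1) := by
      rw [hL, ← hi, ← hTd]
      exact LinearMap.det_conj (T.restrictScalars F) (Module.AEval'.of (Matrix.toLin' g₀.1)).symm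
    have hLc : ∀ v, L (Matrix.mulVec g₀.1 v) = Matrix.mulVec g₀.1 (L v) := fun v => by
      rw [hL]
      show (Module.AEval'.of _).symm (T (Module.AEval'.of _ (Matrix.mulVec g₀.1 v))) =
        Matrix.toLin' g₀.1 ((Module.AEval'.of _).symm (T (Module.AEval'.of _ v)))
      rw [← Matrix.toLin'_apply g₀.1 v, ← Module.AEval'.X_smul_of, map_smul, Module.AEval'.of_symm_X_smul]
    have hu : IsUnit (LinearMap.toMatrix' L).det := by
      rw [LinearMap.det_toMatrix', hLd]; exact (Units.isUnit y).pow _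
    rw [hH]
    refine ⟨Matrix.GeneralLinearGroup.mk'' _ hu, Subgroup.mem_centralizer_singleton_iff.mpr (Units.ext ?_), ?_⟩
    · show LinearMap.toMatrix' L * g₀.1 = g₀.1 * LinearMap.toMatrix' L
      refine Matrix.toLin'.injective (LinearMap.ext fun v => ?_)
      simp only [Matrix.toLin'_mul, Matrix.toLin'_toMatrix', LinearMap.comp_apply, Matrix.toLin'_apply, hLc]
    · refine Units.ext ?_
      rw [Matrix.GeneralLinearGroup.val_det_apply, Units.val_pow_eq_pow_val, ← hLd]
      exact LinearMap.det_toMatrix' L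
  refine (Nat.le_of_dvd ?_ (Subgroup.index_dvd_of_le hrange)).trans (le_of_eq ?_)
  · exact Nat.pos_of_ne_zero Subgroup.index_ne_zero_of_finite
  · rw [IsCyclic.index_powMonoidHom_range, Nat.card_units, Nat.card_eq_fintype_card, hG, splitBound]
    congr! 3

theorem card_sl_classes_le (n : ℕ) [Fintype {h : Tuples F n 0 n // detVal h.1 = 1}] :
    Nat.card (ConjClasses (Matrix.SpecialLinearGroup (Fin n) F)) ≤
      ∑ h : {h : Tuples F n 0 n // detVal h.1 = 1}, splitBound h.1.1 := by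
  obtain ⟨key, -, hfib⟩ := exists_sl_key (F := F) n
  rw [← Nat.card_congr (Equiv.sigmaFiberEquiv key), Nat.card_sigma]
  exact Finset.sum_le_sum fun h _ => hfib h

end CfsgLib.GLClassCount
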