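import Mathlib

/-!
The number of weighted tuples of monic polynomials with nonzero constant term is at most `q ^ n`.
-/

set_option autoImplicit false

namespace CfsgLib.GLClassCount

open Finset

/-- Number of monic polynomials of degree `d` with nonzero constant term. -/
noncomputable def cnt (q : ℝ) : ℕ → ℝ
  | 0 => 1
  | d + 1 => (q - 1) * q ^ d

/-- Upper bound for the tuples using only weights above `i`. -/
noncomputable def bnd (q : ℝ) : ℕ → ℕ → ℕ → ℝ
  | 0, _, w => if w = 0 then 1 else 0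
  | k + 1, i, w => ∑ d ∈ range (w / (i + 1) + 1), cnt q d * bnd q k (i + 1) (w - (i + 1) * d)

theorem cnt_nonneg {q : ℝ} (hq : 1 ≤ q) : ∀ d, 0 ≤ cnt q d
  | 0 => zero_le_one
  | d + 1 => mul_nonneg (by linarith) (pow_nonneg (by linarith) _)

theorem cnt_succ_succ (q : ℝ) (d : ℕ) : cnt q (d + 2) = q * cnt q (d + 1) := by
  show (q - 1) * q ^ (d + 1) = q * ((q - 1) * q ^ d)
  ring

theorem bnd_nonneg {q : ℝ} (hq : 1 ≤ q) : ∀ k i w, 0 ≤ bnd q k i w
  | 0, _, w => by unfold bnd; split_ifs <;> norm_num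
  | k + 1, i, w => by
    unfold bnd
    exact sum_nonneg fun d _ => mul_nonneg (cnt_nonneg hq d) (bnd_nonneg hq k _ _)

theorem bnd_le {q : ℝ} (hq : 1 ≤ q) (k i w : ℕ) : bnd q k (i + 1) w ≤ bnd q (k + 1) i w := by
  rw [bnd, sum_range_succ']
  have : 0 ≤ ∑ d ∈ range (w / (i + 1)), cnt q (d + 1) * bnd q k (i + 1) (w - (i + 1) * (d + 1)) :=
    sum_nonneg fun d _ => mul_nonneg (cnt_nonneg hq _) (bnd_nonneg hq k _ _)
  simp only [show cnt q 0 = 1 from rfl, one_mul, Nat.mul_zero, Nat.sub_zero]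
  linarith [this]

theorem bnd_shift (q : ℝ) (k i w : ℕ) : bnd q (k + 1) i (w + (i + 1)) =
    bnd q k (i + 1) (w + (i + 1)) + q * bnd q (k + 1) i w - bnd q k (i + 1) w := by
  obtain ⟨f, hf⟩ : ∃ f : ℕ → ℝ, f = fun d => bnd q k (i + 1) (w - (i + 1) * d) := ⟨_, rfl⟩
  have h1 : bnd q (k + 1) i (w + (i + 1)) =
      (∑ d ∈ range (w / (i + 1) + 1), cnt q (d + 1) * f d) + bnd q k (i + 1) (w + (i + 1)) := by
    rw [bnd, Nat.add_div_right _ (Nat.succ_pos i), sum_range_succ', hf]
    congr 1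
    · refine sum_congr rfl fun d _ => ?_
      congr 2
      rw [Nat.mul_add, Nat.mul_one]
      omega
    · simp [cnt]
  have h2 : bnd q (k + 1) i w = ∑ d ∈ range (w / (i + 1) + 1), cnt q d * f d := by rw [bnd, hf]
  have h3 : bnd q k (i + 1) w = f 0 := by simp [hf]
  rw [h1, h2, h3, sum_range_succ' (fun d => cnt q (d + 1) * f d), sum_range_succ' (fun d => cnt q d * f d),
    mul_add, mul_sum]
  simp only [cnt_succ_succ, mul_assoc]
  simp [cnt]
  ring

/-- Scaled partial sums. -/
noncomputable def part (q : ℝ) (k i n : ℕ) : ℝ := ∑ w ∈ range n, bnd q k i w * q⁻¹ ^ w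

theorem part_rec {q : ℝ} (hq : 1 < q) (k i n : ℕ) :
    part q (k + 1) i n - q⁻¹ ^ i * part q (k + 1) i (n - (i + 1)) =
      part q k (i + 1) n - q⁻¹ ^ (i + 1) * part q k (i + 1) (n - (i + 1)) := by
  have hx : q * q⁻¹ = 1 := mul_inv_cancel₀ (by linarith)
  have hlow : ∀ w, w < i + 1 → bnd q (k + 1) i w = bnd q k (i + 1) w := fun w hw => by
    rw [bnd, Nat.div_eq_of_lt hw]; simp [cnt]
  induction n with
  | zero => simp [part]
  | succ n ih =>
    by_cases hn : n < i + 1
    · rw [show n + 1 - (i + 1) = 0 by omega]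
      rw [show n - (i + 1) = 0 by omega] at ih
      simp only [part, sum_range_zero, mul_zero, sub_zero] at ih ⊢
      rw [sum_range_succ, sum_range_succ, ih, hlow n hn]
    · obtain ⟨m, rfl⟩ : ∃ m, n = m + (i + 1) := ⟨n - (i + 1), by omega⟩
      rw [Nat.add_sub_cancel] at ih
      rw [show m + (i + 1) + 1 - (i + 1) = m + 1 by omega]
      simp only [part] at ih ⊢
      rw [sum_range_succ _ (m + (i + 1)), sum_range_succ _ m, sum_range_succ _ (m + (i + 1)), sum_range_succ _ m,
        bnd_shift, pow_add q⁻¹ m (i + 1), pow_succ q⁻¹ i]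
      rw [pow_succ q⁻¹ i] at ih
      linear_combination ih + bnd q (k + 1) i m * q⁻¹ ^ i * q⁻¹ ^ m * hx

theorem excess_le_one {q : ℝ} (hq : 1 < q) :
    ∀ k i n, part q k i (n + 1) - q⁻¹ ^ i * part q k i n ≤ 1 := by
  have hx0 : (0 : ℝ) ≤ q⁻¹ := inv_nonneg.mpr (by linarith)
  have hx1 : q⁻¹ ≤ 1 := inv_le_one_of_one_le₀ hq.le
  intro k
  induction k with
  | zero =>
    intro i n
    rcases n with _ | n
    · simp [part, bnd]
    · have : ∀ m, part q 0 i (m + 1) = 1 := fun m => by
        rw [part, sum_range_succ']; simp [bnd]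
      rw [this, this]
      linarith [pow_nonneg hx0 i]
  | succ k ih =>
    intro i n
    refine le_trans ?_ (ih (i + 1) n)
    have hrec := part_rec hq k i (n + 1)
    obtain ⟨m, hm⟩ : ∃ m, m = n + 1 - (i + 1) := ⟨_, rfl⟩
    rw [← hm] at hrec
    have hmn : m ≤ n := by omega
    have e1 : part q (k + 1) i n - part q (k + 1) i m = ∑ w ∈ Ico m n, bnd q (k + 1) i w * q⁻¹ ^ w :=
      (sum_Ico_eq_sub _ hmn).symm
    have e2 : part q k (i + 1) n - part q k (i + 1) m = ∑ w ∈ Ico m n, bnd q k (i + 1) w * q⁻¹ ^ w :=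
      (sum_Ico_eq_sub _ hmn).symm
    have key : q⁻¹ ^ (i + 1) * (∑ w ∈ Ico m n, bnd q k (i + 1) w * q⁻¹ ^ w) ≤
        q⁻¹ ^ i * (∑ w ∈ Ico m n, bnd q (k + 1) i w * q⁻¹ ^ w) :=
      mul_le_mul (pow_le_pow_of_le_one hx0 hx1 (Nat.le_succ i))
        (sum_le_sum fun w _ => mul_le_mul_of_nonneg_right (bnd_le hq.le k i w) (pow_nonneg hx0 w))
        (sum_nonneg fun w _ => mul_nonneg (bnd_nonneg hq.le k _ _) (pow_nonneg hx0 w)) (pow_nonneg hx0 i)
    rw [← e1, ← e2, mul_sub, mul_sub] at key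
    linarith

theorem bnd_le_pow {q : ℝ} (hq : 1 < q) (k n : ℕ) : bnd q k 0 n ≤ q ^ n := by
  have h := excess_le_one hq k 0 n
  rw [pow_zero, one_mul, part, part, sum_range_succ, add_sub_cancel_left, inv_pow] at h
  rw [← one_mul (q ^ n)]
  exact (mul_inv_le_iff₀ (pow_pos (by linarith) n)).mp h

open Polynomial

variable (F : Type*) [Field F] [Fintype F]

/-- Monic polynomials of degree `d` not vanishing at zero. -/
abbrev MonicUnitCoeff (d : ℕ) := {f : F[X] // f.Monic ∧ f.natDegree = d ∧ f.coeff 0 ≠ 0}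

theorem monicUnitCoeff_bound (d : ℕ) :
    Finite (MonicUnitCoeff F d) ∧ (Nat.card (MonicUnitCoeff F d) : ℝ) ≤ cnt (Fintype.card F) d := by
  classical
  have hinj : Function.Injective fun (f : MonicUnitCoeff F d) => fun i : Fin d => f.1.coeff i := by
    intro f g h
    refine Subtype.ext (Polynomial.ext fun i => ?_)
    rcases lt_trichotomy i d with hi | rfl | hi
    · exact congrFun h ⟨i, hi⟩
    · have key : ∀ u : MonicUnitCoeff F i, u.1.coeff i = 1 := fun ⟨u, hu, hud, _⟩ => by
        show u.coeff i = 1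
        subst hud
        exact hu.coeff_natDegree
      rw [key, key]
    · rw [coeff_eq_zero_of_natDegree_lt (by rw [f.2.2.1]; exact hi),
        coeff_eq_zero_of_natDegree_lt (by rw [g.2.2.1]; exact hi)]
  refine ⟨Finite.of_injective _ hinj, ?_⟩
  rcases d with _ | e
  · have := Nat.card_le_card_of_injective _ hinj
    rw [Nat.card_fun, Nat.card_eq_fintype_card (α := Fin 0), Fintype.card_fin, pow_zero] at this
    show _ ≤ (1 : ℝ)
    exact_mod_cast this
  · have h2 : Function.Injective fun f : MonicUnitCoeff F (e + 1) =>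
        ((⟨f.1.coeff 0, f.2.2.2⟩ : {x : F // x ≠ 0}), fun i : Fin e => f.1.coeff (i + 1)) := fun f g h => by
      simp only [Prod.mk.injEq, Subtype.mk.injEq] at h
      refine hinj (funext fun i => ?_)
      rcases i with ⟨_ | j, hj⟩
      · exact h.1
      · exact congrFun h.2 ⟨j, by omega⟩
    have := Nat.card_le_card_of_injective _ h2
    rw [Nat.card_prod, Nat.card_fun, Nat.card_eq_fintype_card (α := Fin e), Fintype.card_fin,
      Nat.card_eq_fintype_card (α := F), Nat.card_eq_fintype_card (α := {x : F // x ≠ 0}), Fintype.card_subtype_compl,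
      Fintype.card_subtype_eq] at this
    show _ ≤ ((Fintype.card F : ℝ) - 1) * (Fintype.card F : ℝ) ^ e
    have h3 : ((Nat.card (MonicUnitCoeff F (e + 1)) : ℕ) : ℝ) ≤
        (((Fintype.card F - 1) * Fintype.card F ^ e : ℕ) : ℝ) := Nat.cast_le.mpr this
    rwa [Nat.cast_mul, Nat.cast_pow, Nat.cast_sub Fintype.card_pos, Nat.cast_one] at h3

/-- Tuples of total weight `w` supported at weights above `i`. -/
abbrev Tuples (n i w : ℕ) := {h : Fin n → F[X] // (∀ j, (h j).Monic ∧ (h j).coeff 0 ≠ 0) ∧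
  (∀ j : Fin n, (j : ℕ) < i → h j = 1) ∧ ∑ j : Fin n, ((j : ℕ) + 1) * (h j).natDegree = w}

theorem tuples_bound (n : ℕ) : ∀ k i w, i + k = n →
    Finite (Tuples F n i w) ∧ (Nat.card (Tuples F n i w) : ℝ) ≤ bnd (Fintype.card F) k i w := by
  classical
  intro k
  induction k with
  | zero =>
    intro i w hi
    have hone : ∀ (h : Tuples F n i w) j, h.1 j = 1 := fun h j => h.2.2.1 j (by omega)
    have hsub : Subsingleton (Tuples F n i w) := ⟨fun h g => Subtype.ext (funext fun j => (hone h j).trans (hone g j).symm)⟩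
    refine ⟨inferInstance, ?_⟩
    by_cases hw : w = 0
    · rw [bnd, if_pos hw]
      exact_mod_cast Finite.card_le_one_iff_subsingleton.mpr hsub
    · have : IsEmpty (Tuples F n i w) := ⟨fun h => hw (by
        rw [← h.2.2.2]; exact Finset.sum_eq_zero fun j _ => by rw [hone h j]; simp)⟩
      rw [bnd, if_neg hw, Nat.card_of_isEmpty, Nat.cast_zero]
  | succ k ih =>
    intro i w hi
    let j₀ : Fin n := ⟨i, by omega⟩
    have hsum : ∀ h : Tuples F n i w, (i + 1) * (h.1 j₀).natDegree +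
        ∑ j : Fin n, ((j : ℕ) + 1) * (Function.update h.1 j₀ 1 j).natDegree = w := fun h => by
      conv_rhs => rw [← h.2.2.2]
      rw [← Finset.add_sum_erase _ _ (Finset.mem_univ j₀), ← Finset.add_sum_erase _ _ (Finset.mem_univ j₀),
        Function.update_self, natDegree_one, Nat.mul_zero, Nat.zero_add]
      refine congrArg _ (Finset.sum_congr rfl fun j hj => ?_)
      rw [Function.update_of_ne (Finset.ne_of_mem_erase hj)]
    have hd : ∀ h : Tuples F n i w, (h.1 j₀).natDegree < w / (i + 1) + 1 := fun h => by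
      rw [Nat.lt_succ_iff, Nat.le_div_iff_mul_le (Nat.succ_pos i), mul_comm]
      exact (Nat.le_add_right _ _).trans (hsum h).le
    let T := Σ d : Fin (w / (i + 1) + 1), MonicUnitCoeff F d × Tuples F n (i + 1) (w - (i + 1) * d)
    let Φ : Tuples F n i w → T := fun h =>
      ⟨⟨_, hd h⟩, ⟨h.1 j₀, (h.2.1 j₀).1, rfl, (h.2.1 j₀).2⟩, ⟨Function.update h.1 j₀ 1, fun j => by
        rcases eq_or_ne j j₀ with rfl | hj
        · rw [Function.update_self]; exact ⟨monic_one, by simp⟩
        · rw [Function.update_of_ne hj]; exact h.2.1 j, fun j hj => by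
        rcases eq_or_ne j j₀ with rfl | hj'
        · rw [Function.update_self]
        · rw [Function.update_of_ne hj']
          exact h.2.2.1 j (lt_of_le_of_ne (Nat.lt_succ_iff.mp hj) fun e => hj' (Fin.ext e)), by
        have := hsum h; dsimp only; omega⟩⟩
    have hΦ : Function.Injective Φ := fun h g e => by
      have e1 := congrArg (fun t : T => t.2.1.1) e
      have e2 := congrArg (fun t : T => t.2.2.1) e
      refine Subtype.ext (funext fun j => ?_)
      rcases eq_or_ne j j₀ with rfl | hj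
      · exact e1
      · have := congrFun e2 j
        simpa only [Φ, Function.update_of_ne hj] using this
    have hP := fun d => monicUnitCoeff_bound F d
    have hT := fun d : ℕ => ih (i + 1) (w - (i + 1) * d) (by omega)
    have : ∀ d, Finite (MonicUnitCoeff F d) := fun d => (hP d).1
    have : ∀ d : ℕ, Finite (Tuples F n (i + 1) (w - (i + 1) * d)) := fun d => (hT d).1
    refine ⟨Finite.of_injective Φ hΦ, le_trans (Nat.cast_le.mpr (Nat.card_le_card_of_injective Φ hΦ)) ?_⟩
    rw [Nat.card_sigma, bnd, ← Fin.sum_univ_eq_sum_range (fun d => cnt (Fintype.card F : ℝ) d *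
      bnd (Fintype.card F : ℝ) k (i + 1) (w - (i + 1) * d)), Nat.cast_sum]
    refine Finset.sum_le_sum fun d _ => ?_
    rw [Nat.card_prod, Nat.cast_mul]
    exact mul_le_mul (hP d).2 (hT d).2 (Nat.cast_nonneg _) (cnt_nonneg (by exact_mod_cast Fintype.card_pos) _)

theorem card_tuples_le (n : ℕ) : Finite (Tuples F n 0 n) ∧ Nat.card (Tuples F n 0 n) ≤ Fintype.card F ^ n := by
  obtain ⟨hf, hb⟩ := tuples_bound F n n 0 n (zero_add n)
  refine ⟨hf, ?_⟩
  have := hb.trans (bnd_le_pow (by exact_mod_cast Fintype.one_lt_card) n n)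
  exact_mod_cast this

end CfsgLib.GLClassCount
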